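/-
Torsion-free quotients of coherent modules where all stalks are principal ideal domains,
and adjoints of quotients of pullbacks along affine birational morphisms.
-/
import Groth.Agent.RefStalk.Generic
import Groth.Agent.RegDual.Scheme
import Groth.Agent.TFCurvStab.Basic
import Groth.Agent.Horrocks.Koszul
import Groth.Agent.ModDesc.Iso
import Groth.Agent.ModDesc.FamOps
import Groth.Agent.RatFun.Basic
import Groth.Agent.PnEuler.RankTwo

set_option autoImplicit false
set_option linter.style.haveILetI false
set_option linter.unusedSectionVars false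
set_option backward.isDefEq.respectTransparency false
set_option backward.isDefEq.respectTransparency.types false

universe u

open CategoryTheory CategoryTheory.Limits AlgebraicGeometry TopologicalSpace Opposite
open Groth.Agent.WeakAssLib (mgerm stalkHom stalkHom_germ stalkHom_smul)

noncomputable section

namespace Groth.Agent.TFQuot

variable {X Y : Scheme.{u}}

theorem stalkHom_comp {F G H : X.Modules} (f : F ⟶ G) (g : G ⟶ H) (x : X) (v : F.presheaf.stalk x) :
    stalkHom (f ≫ g) x v = stalkHom g x (stalkHom f x v) := by
  obtain ⟨U, hU, s, rfl⟩ := F.presheaf.exists_germ_eq v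
  show stalkHom (f ≫ g) x (mgerm F hU s) = stalkHom g x (stalkHom f x (mgerm F hU s))
  erw [stalkHom_germ, stalkHom_germ, stalkHom_germ]
  rfl

/-- A coherent module has a locally free quotient, an isomorphism where it is free. -/
theorem exists_tf_quotient [IsLocallyNoetherian X]
    (hpid : ∀ x : X, IsDomain (X.presheaf.stalk x) ∧ IsPrincipalIdealRing (X.presheaf.stalk x))
    (G : X.Modules) (hG : Coh.IsCoh G) :
    ∃ (E : X.Modules) (p : G ⟶ E), Coh.IsCoh E ∧ FlatMod.IsFinLocFree E ∧ Epi p ∧
      ∀ x : X, Module.IsTorsionFree (X.presheaf.stalk x) (G.presheaf.stalk x) →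
        Function.Injective (stalkHom p x) := by
  have hdual : Coh.IsCoh (RefHull.dual G) := RefStalk.isCoh_homSh hG RefStalk.isCoh_structureModule
  have hdd : Coh.IsCoh (RefHull.ddual G) := RefStalk.isCoh_homSh hdual RefStalk.isCoh_structureModule
  have D : ∀ (F : X.Modules), Coh.IsCoh F → ∀ x : X,
      Nonempty ((RefHull.dual F).presheaf.stalk x ≃ₗ[X.presheaf.stalk x]
        Module.Dual (X.presheaf.stalk x) (F.presheaf.stalk x)) := fun F hF x => by
    obtain ⟨e, -⟩ := RefStalk.exists_structStalk x
    exact ⟨LinearEquiv.ofBijective _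
      (RefStalk.bijective_evalStalk_of_isCoh (G := Coh.structureModule X) hF x) ≪≫ₗ
      LinearEquiv.arrowCongr (LinearEquiv.refl _ _) e.symm⟩
  have hfree : FlatMod.IsFinLocFree (RefHull.ddual G) := RegDual.isFinLocFree_of_free_stalk hdd fun x => by
    obtain ⟨hd, hp⟩ := hpid x
    haveI := hd
    haveI := hp
    obtain ⟨d1⟩ := D G hG x
    haveI := RegDual.finite_stalk hdual x
    obtain ⟨d⟩ := D _ hdual x
    haveI : Module.Finite (X.presheaf.stalk x) ((RefHull.ddual G).presheaf.stalk x) := RegDual.finite_stalk hdd x
    haveI : Module.IsTorsionFree (X.presheaf.stalk x) ((RefHull.ddual G).presheaf.stalk x) :=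
      Function.Injective.moduleIsTorsionFree (f := d) d.injective fun r m => map_smul d r m
    exact Module.free_of_finite_type_torsion_free'
  refine ⟨_, RefHull.bidualMap G, hdd, hfree, ?_, ?_⟩
  · refine Horrocks.epi_of_stalk _ fun x => ?_
    haveI := (hpid x).1
    haveI := (hpid x).2
    exact RefStalk.surjective_stalkMap_bidualMap hG x
  · intro x htf
    haveI := htf
    haveI := (hpid x).1
    haveI := (hpid x).2
    haveI := RegDual.finite_stalk hG x
    haveI : Module.Free (X.presheaf.stalk x) (G.presheaf.stalk x) := Module.free_of_finite_type_torsion_free'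
    obtain ⟨e, -⟩ := RefStalk.exists_structStalk x
    let ev := LinearEquiv.ofBijective _
      (RefStalk.bijective_evalStalk_of_isCoh (G := Coh.structureModule X) hG x)
    intro v w hvw
    have h1 : RefHull.bidualAt G x v = RefHull.bidualAt G x w := by
      rw [← RefStalk.evalStalk_stalkMap_bidualMap, ← RefStalk.evalStalk_stalkMap_bidualMap]
      exact congrArg _ hvw
    refine Module.eval_apply_injective (X.presheaf.stalk x) (LinearMap.ext fun φ => ?_)
    have h2 := LinearMap.congr_fun h1 (ev.symm ((e : _ →ₗ[X.presheaf.stalk x] _).comp φ))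
    change ev (ev.symm _) v = ev (ev.symm _) w at h2
    rw [ev.apply_symm_apply] at h2
    exact e.injective h2

variable (ν : Y ⟶ X)

/-- At a point with bijective stalk map, a stalk embeds in the stalk of the pullback. -/
theorem kap_injective (F : X.Modules) (y : Y) (hs : Function.Bijective (ν.stalkMap y).hom) :
    Function.Injective (KFlat.kap ν y F) := by
  let σ := RingEquiv.ofBijective (ν.stalkMap y).hom hs
  let M := (DerSch.stalkFunctor X (ν y)).obj F
  let P : ModuleCat (Y.presheaf.stalk y) := (ModuleCat.restrictScalars σ.symm.toRingHom).obj M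
  have heq : σ.symm.toRingHom.comp (ν.stalkMap y).hom = RingHom.id _ :=
    RingHom.ext fun r => σ.symm_apply_apply r
  let h : M ⟶ (ModuleCat.restrictScalars (ν.stalkMap y).hom).obj P :=
    (ModuleCat.restrictScalarsId' (σ.symm.toRingHom.comp (ν.stalkMap y).hom) heq).inv.app M ≫
      (ModuleCat.restrictScalarsComp (ν.stalkMap y).hom σ.symm.toRingHom).hom.app M
  obtain ⟨g, hg⟩ := KFlat.exists_pull_stalk_desc ν y F h
  intro a b hab
  have h2 := congrArg g.hom hab
  rw [hg, hg] at h2
  exact h2

/-- The adjoint of a map out of a pullback is injective on stalks where both factors are. -/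
theorem injective_stalk_adjoint {F : X.Modules} {G : Y.Modules} (p : (Scheme.Modules.pullback ν).obj F ⟶ G)
    (y : Y) (hk : Function.Injective (KFlat.kap ν y F)) (hp : Function.Injective (stalkHom p y)) :
    Function.Injective (stalkHom ((Scheme.Modules.pullbackPushforwardAdjunction ν).unit.app F ≫
      (Scheme.Modules.pushforward ν).map p) (ν y)) := by
  set h := (Scheme.Modules.pullbackPushforwardAdjunction ν).unit.app F ≫
      (Scheme.Modules.pushforward ν).map p
  have key : ∀ m, KFlat.pushStalk ν y G (stalkHom h (ν y) m) = stalkHom p y (KFlat.kap ν y F m) := fun m => by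
    obtain ⟨U, hU, s, rfl⟩ := F.presheaf.exists_germ_eq (x := ν y) m
    refine ((congrArg (KFlat.pushStalk ν y G) (stalkHom_germ h hU s)).trans
      (Intersect.pushStalk_mgerm ν y G hU _)).trans ?_
    refine Eq.trans ?_ (congrArg (stalkHom p y) (KFlat.kap_germ ν y F U hU s)).symm
    exact (stalkHom_germ p (show y ∈ ν ⁻¹ᵁ U from hU) _).symm
  intro a b hab
  apply hk
  apply hp
  rw [← key, ← key, hab]

/-- The counit of an affine morphism is surjective on quasi-coherent modules. -/
theorem epi_counit [IsAffineHom ν] (E : Y.Modules) (hE : Coh.IsQCoh E) :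
    Epi ((Scheme.Modules.pullbackPushforwardAdjunction ν).counit.app E) := by
  haveI : Coh.IsQCoh ((𝟭 Y.Modules).obj E) := hE
  refine ModDesc.epi_of_affine_cover _ (fun W : X.affineOpens => ν ⁻¹ᵁ (W : X.Opens)) (fun W => W.2.preimage ν)
    (fun y => ?_) fun W => ?_
  · obtain ⟨W, hW, hy, -⟩ := exists_isAffineOpen_mem_and_subset (U := (⊤ : X.Opens)) (x := ν y) trivial
    exact ⟨⟨W, hW⟩, hy⟩
  · intro s
    let adj := Scheme.Modules.pullbackPushforwardAdjunction ν
    refine ⟨(adj.unit.app ((Scheme.Modules.pushforward ν).obj E)).app W s, ?_⟩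
    exact congrArg (fun φ : (Scheme.Modules.pushforward ν).obj E ⟶ (Scheme.Modules.pushforward ν).obj E =>
      φ.app W s) (adj.right_triangle_components E)

/-- The counit is injective at a point over which the fibre is a point and the stalk map is onto. -/
theorem injective_stalk_counit (hc : IsClosedMap ν) (E : Y.Modules) (hE : IsClosed (CohB1.support E)) (y : Y)
    (hy : ν ⁻¹' {ν y} ⊆ {y}) (hs : Function.Surjective (ν.stalkMap y).hom) :
    Function.Injective (stalkHom ((Scheme.Modules.pullbackPushforwardAdjunction ν).counit.app E) y) := by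
  have hb := Intersect.pushStalk_bijective_of_fibre ν hc E hE y fun z hz => hy hz.1
  intro a b hab
  obtain ⟨a', rfl⟩ := TFCurvStab.kap_surjective ν _ y hs a
  obtain ⟨b', rfl⟩ := TFCurvStab.kap_surjective ν _ y hs b
  exact congrArg _ (hb.1 hab)

/-- Quotients onto torsion-free modules which are injective at the generic point agree. -/
theorem nonempty_iso_of_epi [IsIntegral X] {G E E' : X.Modules} (hG : Coh.IsQCoh G) (hE : Coh.IsQCoh E)
    (hE' : Coh.IsQCoh E') (htE : TorSh.IsTorsionFree E) (htE' : TorSh.IsTorsionFree E')
    (q : G ⟶ E) (q' : G ⟶ E') [Epi q] [Epi q']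
    (h : Function.Injective (stalkHom q (genericPoint X)))
    (h' : Function.Injective (stalkHom q' (genericPoint X))) : Nonempty (E ≅ E') := by
  have key : ∀ {A B : X.Modules} (q : G ⟶ A) (q' : G ⟶ B), Coh.IsQCoh B → TorSh.IsTorsionFree B →
      Function.Injective (stalkHom q (genericPoint X)) → kernel.ι q ≫ q' = 0 := by
    intro A B q q' hB htB hinj
    haveI := hB
    refine Scheme.Modules.hom_ext _ _ fun V => ?_
    ext a
    by_cases hV : genericPoint X ∈ V
    · refine RatFun.germ_generic_injective B htB hV ?_
      have h0 : mgerm G hV ((kernel.ι q).app V a) = 0 := hinj (by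
        rw [stalkHom_germ, show q.app V ((kernel.ι q).app V a) = 0 from
          congrArg (fun φ : kernel q ⟶ A => φ.app V a) (kernel.condition q), map_zero, map_zero])
      show mgerm B hV (q'.app V ((kernel.ι q).app V a)) = 0
      rw [← stalkHom_germ q' hV, h0, map_zero]
    · exact Groth.Agent.QC.section_eq_of_locally fun y hy =>
        absurd ((genericPoint_specializes y).mem_open V.2 hy) hV
  let hq := Abelian.epiIsCokernelOfKernel _ (kernelIsKernel q)
  let hq' := Abelian.epiIsCokernelOfKernel _ (kernelIsKernel q')
  let a := hq.desc (CokernelCofork.ofπ q' (key q q' hE' htE' h))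
  let b := hq'.desc (CokernelCofork.ofπ q (key q' q hE htE h'))
  have ha : q ≫ a = q' := Cofork.IsColimit.π_desc hq
  have hb : q' ≫ b = q := Cofork.IsColimit.π_desc hq'
  exact ⟨⟨a, b, by rw [← cancel_epi q, ← Category.assoc, ha, hb, Category.comp_id],
    by rw [← cancel_epi q', ← Category.assoc, hb, ha, Category.comp_id]⟩⟩

end Groth.Agent.TFQuot

end
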