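/-
Coherent modules locally like a sum of copies of the normalised local ring are direct images from
the normalisation.
-/
import Groth.Agent.TFQuot.Basic
import Groth.Agent.TFModify.Basic
import Groth.Agent.NormCoker.Basic
import Groth.Agent.NormSmoothBC.Basic
import Groth.Agent.GenusInsep.DimFinite
import Groth.Agent.QuotCurve.Basic
import Groth.Agent.W7Slope.Basic
import Groth.Agent.S1585
import Groth.Agent.FrobSplitEtale.Exact
import Groth.Agent.NormChar.Basic
import Groth.Agent.K0Coh.Basic

set_option autoImplicit false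
set_option linter.style.haveILetI false
set_option linter.unusedSectionVars false
set_option backward.isDefEq.respectTransparency false
set_option backward.isDefEq.respectTransparency.types false
set_option maxHeartbeats 1000000

universe u

open CategoryTheory CategoryTheory.Limits AlgebraicGeometry TopologicalSpace Opposite
open Groth.Agent.WeakAssLib (mgerm stalkHom stalkHom_germ stalkHom_smul mgerm_smul mgerm_res)
open Groth.Agent.QC (res res_res res_self res_smul)

noncomputable section

namespace Groth.Agent.TFQuot

variable (k : Type u) [Field k] (X : Scheme.{u}) [X.Over (Spec (CommRingCat.of k))] [IsIntegral X]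
  [IsProper (X ↘ Spec (CommRingCat.of k))]
  [QuasiCompact (X.fromSpecStalk (genericPoint X))] [QuasiSeparated (X.fromSpecStalk (genericPoint X))]

include k

/-- Facts about the normalisation of a proper integral curve. -/
theorem norm_facts (hdim : topologicalKrullDim X = 1) :
    IsFinite (Curv2.normalizationι X) ∧ IsIntegral (Curv2.normalization X) ∧
    IsLocallyNoetherian (Curv2.normalization X) ∧
    (∀ y : Curv2.normalization X, IsDomain ((Curv2.normalization X).presheaf.stalk y) ∧
      IsPrincipalIdealRing ((Curv2.normalization X).presheaf.stalk y)) ∧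
    Curv2.normalizationι X (genericPoint (Curv2.normalization X)) = genericPoint X ∧
    (Curv2.normalizationι X) ⁻¹' {genericPoint X} ⊆ {genericPoint (Curv2.normalization X)} ∧
    Function.Bijective ((Curv2.normalizationι X).stalkMap (genericPoint (Curv2.normalization X))).hom := by
  obtain ⟨hfin, -, ⟨V, hV, hVi⟩, hint, hn⟩ := Groth.Agent.S1585.result k X
  haveI := hfin
  haveI := hint
  haveI := hVi
  haveI := CurveRR.isNoetherian_of_proper k X
  haveI : IsLocallyNoetherian (Curv2.normalization X) :=
    LocallyOfFiniteType.isLocallyNoetherian (Curv2.normalizationι X)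
  have hd := GenusInsep.topologicalKrullDim_le_of_finite (Curv2.normalizationι X) hdim.le
  refine ⟨hfin, hint, ‹_›, fun y => ?_, NormSmoothBC.ι_genericPoint, fun y hy => ?_,
    ?_⟩
  · obtain ⟨h1, h2⟩ := hn y
    haveI := h1
    haveI := h2
    have hdy := (RegDual.ringKrullDim_stalk_le_topologicalKrullDim y).trans hd
    haveI := QuotCurve.isRegularLocalRing_of_normal hdy
    exact ⟨h1, W7Slope.isPrincipalIdealRing_of_regular hdy⟩
  · exact (NormChar.eq_of_specializes (Curv2.normalizationι X)
      (genericPoint_specializes y) (NormSmoothBC.ι_genericPoint.trans hy.symm)).symm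
  · haveI := NormChar.stalk_iso_normalization X
    exact ConcreteCategory.bijective_of_isIso _

/-- Every coherent module with stalks free over the normalised local rings is a direct image. -/
theorem exists_push (hdim : topologicalKrullDim X = 1) (n : ℕ) (F : X.Modules) (hF : Coh.IsCoh F)
    (hst : ∀ x : X, Nonempty (↑(F.presheaf.stalk x) ≃ₗ[↑(X.presheaf.stalk x)]
      (Fin n → ↥(integralClosure ↑(X.presheaf.stalk x) X.functionField)))) :
    ∃ E : (Curv2.normalization X).Modules, FlatMod.IsFinLocFreeOfRank n E ∧
      Nonempty ((Scheme.Modules.pushforward (Curv2.normalizationι X)).obj E ≅ F) := by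
  obtain ⟨hfin, hint, hnoe, hpid, hgen, hfib, hbij⟩ := norm_facts k X hdim
  let Y := Curv2.normalization X
  let ν : Y ⟶ X := Curv2.normalizationι X
  haveI : IsFinite ν := hfin
  haveI : IsIntegral Y := hint
  haveI : IsLocallyNoetherian Y := hnoe
  haveI := CurveRR.isNoetherian_of_proper k X
  haveI := hF.1
  have htF : TorSh.IsTorsionFree F := fun x => by
    obtain ⟨φ⟩ := hst x
    exact Function.Injective.moduleIsTorsionFree (f := φ) φ.injective fun r m => map_smul φ r m
  have hG := Groth.Agent.QC.isCoh_pullback ν hF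
  obtain ⟨E, p, hE, hEf, hp, hinj⟩ := exists_tf_quotient hpid _ hG
  haveI := hp
  haveI := hE.1
  have htE : TorSh.IsTorsionFree E := PnEuler.isTorsionFree_of_isFinLocFree hEf
  let h := (Scheme.Modules.pullbackPushforwardAdjunction ν).unit.app F ≫ (Scheme.Modules.pushforward ν).map p
  have hk : Function.Injective (KFlat.kap ν (genericPoint Y) F) := kap_injective ν F _ hbij
  haveI : IsDomain (Y.presheaf.stalk (genericPoint Y)) := (hpid _).1
  have hpη : Function.Injective (stalkHom p (genericPoint Y)) := by
    refine hinj _ ?_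
    letI : Field (Y.presheaf.stalk (genericPoint Y)) := inferInstanceAs (Field Y.functionField)
    infer_instance
  haveI : Mono h := by
    refine TFModify.mono_of_generic htF h ?_
    have := injective_stalk_adjoint ν p (genericPoint Y) hk hpη
    rw [hgen] at this
    exact this
  -- surjectivity on stalks
  have hsurj : ∀ x : X, Function.Surjective (stalkHom h x) := fun x w => by
    obtain ⟨U₀, hx₀, y, rfl⟩ := ((Scheme.Modules.pushforward ν).obj E).presheaf.exists_germ_eq w
    obtain ⟨U, hU, hxU, hle⟩ := exists_isAffineOpen_mem_and_subset (U := U₀) (x := x) hx₀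
    let O := (Scheme.Modules.pushforward ν).obj E
    suffices hs : ∀ y' : Γ(O, U), ∃ v, stalkHom h x v = mgerm O hxU y' by
      obtain ⟨v, hv⟩ := hs (res O hle y)
      exact ⟨v, hv.trans (mgerm_res O (show U ≤ U₀ from hle) hxU y)⟩
    haveI : Nonempty U := ⟨⟨x, hxU⟩⟩
    letI := (ν.app U).hom.toAlgebra
    obtain ⟨ε⟩ := NormCoker.exists_algEquiv X hU
    have hspan : Submodule.span Γ(Y, ν ⁻¹ᵁ U) ((ModDesc.pullSectLE ν F U (ν ⁻¹ᵁ U) le_rfl) '' Set.univ) = ⊤ :=
      ModDesc.span_pullSectLE ν F hU (hU.preimage ν) le_rfl Submodule.span_univ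
    have himg : ∀ (b : Γ(Y, ν ⁻¹ᵁ U)) (m : Γ(F, U)), ∃ v, stalkHom h x v =
        mgerm O hxU (show Γ(O, U) from b • (show Γ(E, ν ⁻¹ᵁ U) from h.app U m)) := fun b m => by
      let β : integralClosure Γ(X, U) X.functionField := ε.symm b
      haveI : IsFractionRing Γ(X, U) X.functionField := functionField_isFractionRing_of_isAffineOpen X U hU
      obtain ⟨⟨c, a⟩, hca⟩ := IsLocalization.surj (nonZeroDivisors Γ(X, U))
        (S := X.functionField) β.1
      obtain ⟨a, ha⟩ := a
      letI : Algebra Γ(X, U) (X.presheaf.stalk x) := TopCat.Presheaf.algebra_section_stalk X.presheaf ⟨x, hxU⟩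
      haveI : IsScalarTower Γ(X, U) (X.presheaf.stalk x) X.functionField := functionField_isScalarTower X U ⟨x, hxU⟩
      have hβ : IsIntegral (X.presheaf.stalk x) (β : X.functionField) := β.2.tower_top
      let β' : integralClosure (X.presheaf.stalk x) X.functionField := ⟨β, hβ⟩
      obtain ⟨φ⟩ := hst x
      let g := X.presheaf.germ U x hxU
      have hβ' : g c • (1 : integralClosure (X.presheaf.stalk x) X.functionField) = g a • β' := by
        apply Subtype.ext
        show g c • (1 : X.functionField) = g a • (β : X.functionField)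
        rw [Algebra.smul_def, Algebra.smul_def, mul_one]
        have e : ∀ r : Γ(X, U), algebraMap (X.presheaf.stalk x) X.functionField (g r) =
            algebraMap Γ(X, U) X.functionField r := fun r =>
          (IsScalarTower.algebraMap_apply Γ(X, U) (X.presheaf.stalk x) X.functionField r).symm
        rw [e, e, mul_comm]
        exact hca.symm
      let v := φ.symm (fun i => β' * φ (mgerm F hxU m) i)
      have hv : g a • v = g c • mgerm F hxU m := by
        apply φ.injective
        rw [map_smul, map_smul, φ.apply_symm_apply]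
        funext i
        simp only [Pi.smul_apply]
        rw [← smul_mul_assoc, ← hβ', smul_mul_assoc, one_mul]
      refine ⟨v, ?_⟩
      have hga : g a ≠ 0 := fun h0 => nonZeroDivisors.ne_zero ha
        (germ_injective_of_isIntegral X x hxU (h0.trans (map_zero _).symm))
      -- compare after multiplication by `a`
      have hab : (ν.app U).hom a * b = (ν.app U).hom c := by
        have hcb : a • β = algebraMap Γ(X, U) _ c := Subtype.ext (by
          show a • (β : X.functionField) = algebraMap Γ(X, U) X.functionField c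
          rw [Algebra.smul_def, mul_comm]; exact hca)
        have := congrArg ε hcb
        rw [map_smul, AlgEquiv.commutes, show ε β = b from ε.apply_symm_apply b, Algebra.smul_def] at this
        exact this
      have e1 : g a • stalkHom h x v = g a • mgerm O hxU (show Γ(O, U) from b • (show Γ(E, ν ⁻¹ᵁ U) from h.app U m)) := by
        rw [← stalkHom_smul, hv, stalkHom_smul]
        erw [stalkHom_germ, ← mgerm_smul, ← mgerm_smul]
        refine congrArg _ ?_
        show (ν.app U).hom c • (show Γ(E, ν ⁻¹ᵁ U) from h.app U m) =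
          (ν.app U).hom a • (b • (show Γ(E, ν ⁻¹ᵁ U) from h.app U m))
        rw [smul_smul, hab]
      -- cancel `a` in the torsion-free stalk
      obtain ⟨d, hd⟩ : ∃ d, stalkHom h x v - mgerm O hxU (show Γ(O, U) from b • (show Γ(E, ν ⁻¹ᵁ U) from h.app U m)) = d :=
        ⟨_, rfl⟩
      have hd0 : g a • d = 0 := by rw [← hd, smul_sub, e1, sub_self]
      refine sub_eq_zero.1 (hd.trans ?_)
      obtain ⟨U', hxU', z, rfl⟩ := O.presheaf.exists_germ_eq d
      change g a • mgerm O hxU' z = 0 at hd0
      let a₀ : Γ(X, U ⊓ U') := QC.resO X (inf_le_left : U ⊓ U' ≤ U) a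
      let z₀ : Γ(O, U ⊓ U') := res O (inf_le_right : U ⊓ U' ≤ U') z
      have hx' : x ∈ U ⊓ U' := ⟨hxU, hxU'⟩
      have hz : mgerm O hx' (a₀ • z₀) = mgerm O hx' 0 := by
        rw [mgerm_smul, map_zero, mgerm_res]
        erw [TopCat.Presheaf.germ_res_apply]
        exact hd0
      obtain ⟨D, hxD, i₁, i₂, hD⟩ := O.presheaf.germ_eq x _ _ _ _ hz
      let a₁ : Γ(X, D) := QC.resO X (leOfHom i₁) a₀
      let z₁ : Γ(E, ν ⁻¹ᵁ D) := res O (leOfHom i₁) z₀
      have hD' : (ν.app D).hom a₁ • z₁ = 0 := by
        have h0 : res O (leOfHom i₁) (a₀ • z₀) = 0 := hD.trans (map_zero _)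
        rw [res_smul] at h0
        exact h0
      suffices h0 : z₁ = 0 by
        show mgerm O hxU' z = 0
        rw [← mgerm_res O ((leOfHom i₁).trans inf_le_right) hxD]
        have e0 : res O ((leOfHom i₁).trans (inf_le_right : U ⊓ U' ≤ U')) z = res O (leOfHom i₁) z₀ :=
          (res_res O _ _ _).symm
        rw [e0]
        show mgerm O hxD (show Γ(O, D) from z₁) = 0
        rw [h0]; exact map_zero _
      refine Groth.Agent.WeakAssLib.ext_germ E _ fun z' hz' => ?_
      haveI := htE z'
      haveI : IsDomain (Y.presheaf.stalk z') := (hpid z').1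
      have h1 := congrArg (mgerm E hz') hD'
      rw [mgerm_smul, map_zero] at h1
      refine (smul_eq_zero.1 h1).resolve_left fun h2 => hga ?_
      have h3 : (ν.app D).hom a₁ = 0 := germ_injective_of_isIntegral Y z' hz' (h2.trans (map_zero _).symm)
      have hηY : ν (genericPoint Y) ∈ D := by
        rw [show ν (genericPoint Y) = genericPoint X from hgen]
        exact (genericPoint_specializes x).mem_open D.2 hxD
      have h4 : (ν.stalkMap (genericPoint Y)).hom (X.presheaf.germ D _ hηY a₁) = 0 :=
        (Scheme.Hom.germ_stalkMap_apply ν D (genericPoint Y) hηY a₁).trans ((congrArg _ h3).trans (map_zero _))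
      have h5 : a₁ = 0 := germ_injective_of_isIntegral X _ hηY
        ((hbij.1 (h4.trans (map_zero _).symm)).trans (map_zero _).symm)
      have h6 : X.presheaf.germ D x hxD a₁ = g a :=
        (TopCat.Presheaf.germ_res_apply X.presheaf (homOfLE (leOfHom i₁)) x hxD a₀).trans
          (TopCat.Presheaf.germ_res_apply X.presheaf (homOfLE (inf_le_left : U ⊓ U' ≤ U)) x hx' a)
      rw [← h6, h5]; exact map_zero _
    intro y'
    haveI := hG.1
    obtain ⟨s, hs⟩ := Groth.Agent.QC.app_surjective_of_epi (hU.preimage ν) hG.1 hE.1 p (show Γ(E, ν ⁻¹ᵁ U) from y')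
    have hs' : s ∈ Submodule.span Γ(Y, ν ⁻¹ᵁ U) ((ModDesc.pullSectLE ν F U (ν ⁻¹ᵁ U) le_rfl) '' Set.univ) := by
      rw [hspan]; trivial
    suffices hA : ∀ b : Γ(Y, ν ⁻¹ᵁ U), ∃ v, stalkHom h x v = mgerm O hxU (show Γ(O, U) from b • p.app _ s) by
      obtain ⟨v, hv⟩ := hA 1
      exact ⟨v, by rw [hv, one_smul, hs]⟩
    clear hs
    induction hs' using Submodule.span_induction with
    | mem z hz =>
      obtain ⟨m, -, rfl⟩ := hz
      intro b
      rw [ModDesc.pullSectLE_apply, res_self]
      exact himg b m
    | zero => intro b; exact ⟨0, by rw [map_zero, map_zero, smul_zero]; exact (map_zero _).symm⟩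
    | add z z' _ _ ha hb =>
      intro b
      obtain ⟨va, hva⟩ := ha b
      obtain ⟨vb, hvb⟩ := hb b
      refine ⟨va + vb, ?_⟩
      rw [map_add, hva, hvb, map_add, smul_add]
      exact (map_add _ _ _).symm
    | smul r z _ ha =>
      intro b
      obtain ⟨v, hv⟩ := ha (b * r)
      exact ⟨v, by rw [hv, Scheme.Modules.Hom.app_smul, smul_smul]⟩
  haveI : Epi h := Horrocks.epi_of_stalk h hsurj
  haveI : IsIso h := isIso_of_mono_of_epi h
  refine ⟨E, ?_, ⟨(asIso h).symm⟩⟩
  have hr : W7Slope.grk E = n := by
    have h1 : Function.Surjective (stalkHom p (genericPoint Y)) := TFModify.surjective_stalkHom p _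
    let j₀ : F.presheaf.stalk (ν (genericPoint Y)) →+ E.presheaf.stalk (genericPoint Y) :=
      (stalkHom p (genericPoint Y)).comp (KFlat.kap ν (genericPoint Y) F)
    have hj : Function.Bijective j₀ :=
      ⟨hpη.comp hk, h1.comp (TFCurvStab.kap_surjective ν F _ hbij.2)⟩
    have hr0 := rank_eq_of_equiv_equiv (ν.stalkMap (genericPoint Y)).hom (AddEquiv.ofBijective j₀ hj) hbij
      (fun r m => by
        show stalkHom p _ (KFlat.kap ν _ F (r • m)) = _ • stalkHom p _ (KFlat.kap ν _ F m)
        erw [KFlat.kap_smul, stalkHom_smul])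
    have hr1 : Module.finrank (X.presheaf.stalk (ν (genericPoint Y))) (F.presheaf.stalk (ν (genericPoint Y))) =
        W7Slope.grk E := congrArg Cardinal.toNat hr0
    rw [← hr1, hgen]
    have key : ∀ x : X, x = genericPoint X →
        Module.finrank (X.presheaf.stalk x) (F.presheaf.stalk x) = n := by
      intro x hx
      obtain ⟨φ⟩ := hst x
      rw [φ.finrank_eq]
      have hiso : ∀ (a b : X) (h : a ⤳ b), a = b → IsIso (X.presheaf.stalkSpecializes h) := by
        rintro a b h rfl
        rw [TopCat.Presheaf.stalkSpecializes_refl]; infer_instance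
      haveI := hiso _ _ (genericPoint_specializes x) hx.symm
      have hb : Function.Bijective (algebraMap (X.presheaf.stalk x) X.functionField) :=
        ConcreteCategory.bijective_of_isIso (X.presheaf.stalkSpecializes (genericPoint_specializes x))
      let e : X.presheaf.stalk x ≃ₗ[X.presheaf.stalk x] integralClosure (X.presheaf.stalk x) X.functionField :=
        LinearEquiv.ofBijective (Algebra.linearMap _ _)
          ⟨fun a b hab => hb.1 (congrArg Subtype.val hab), fun a => by
            obtain ⟨c, hc⟩ := hb.2 a.1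
            exact ⟨c, Subtype.ext hc⟩⟩
      refine ((LinearEquiv.piCongrRight fun _ : Fin n => e.symm).finrank_eq).trans ?_
      exact (Module.finrank_fin_fun _)
    exact key _ rfl
  exact hr ▸ W7Slope.rank_of_isFinLocFree hE.1 hEf

/-- Locally free modules on the normalisation are determined by their direct images. -/
theorem iso_of_push_iso (hdim : topologicalKrullDim X = 1) {n : ℕ} (E E' : (Curv2.normalization X).Modules)
    (hE : FlatMod.IsFinLocFreeOfRank n E) (hE' : FlatMod.IsFinLocFreeOfRank n E')
    (θ : (Scheme.Modules.pushforward (Curv2.normalizationι X)).obj E ≅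
      (Scheme.Modules.pushforward (Curv2.normalizationι X)).obj E') : Nonempty (E ≅ E') := by
  obtain ⟨hfin, hint, hnoe, hpid, hgen, hfib, hbij⟩ := norm_facts k X hdim
  let Y := Curv2.normalization X
  let ν : Y ⟶ X := Curv2.normalizationι X
  haveI : IsFinite ν := hfin
  haveI : IsIntegral Y := hint
  haveI : IsLocallyNoetherian Y := hnoe
  haveI := CurveRR.isNoetherian_of_proper k X
  have hfE : FlatMod.IsFinLocFree E := fun y => by obtain ⟨W, hy, i⟩ := hE y; exact ⟨W, n, hy, i⟩
  have hfE' : FlatMod.IsFinLocFree E' := fun y => by obtain ⟨W, hy, i⟩ := hE' y; exact ⟨W, n, hy, i⟩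
  have hcE : Coh.IsCoh E := K0Coh.isCoh_of_isFinLocFree hfE
  have hcE' : Coh.IsCoh E' := K0Coh.isCoh_of_isFinLocFree hfE'
  let adj := Scheme.Modules.pullbackPushforwardAdjunction ν
  haveI := epi_counit ν E hcE.1
  haveI := epi_counit ν E' hcE'.1
  have hi : ∀ (A : Y.Modules), Coh.IsCoh A →
      Function.Injective (stalkHom (adj.counit.app A) (genericPoint Y)) := fun A hA => by
    refine injective_stalk_counit ν ν.isClosedMap A (Groth.Agent.QC.isClosed_support hA.2) _ ?_ hbij.2
    rw [hgen]; exact hfib
  let q' : (Scheme.Modules.pullback ν).obj ((Scheme.Modules.pushforward ν).obj E) ⟶ E' :=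
    (Scheme.Modules.pullback ν).map θ.hom ≫ adj.counit.app E'
  haveI : Epi q' := epi_comp _ _
  have hq' : Function.Injective (stalkHom q' (genericPoint Y)) := by
    intro a b hab
    rw [stalkHom_comp, stalkHom_comp] at hab
    exact TFModify.injective_stalkHom _ _ (hi E' hcE' hab)
  exact nonempty_iso_of_epi (Groth.Agent.QC.isCoh_pullback ν (Groth.Agent.QC.isCoh_pushforward_of_isFinite ν hcE.2 (hM := hcE.1))).1
    hcE.1 hcE'.1 (PnEuler.isTorsionFree_of_isFinLocFree hfE) (PnEuler.isTorsionFree_of_isFinLocFree hfE')
    (adj.counit.app E) q' (hi E hcE) hq'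

end Groth.Agent.TFQuot

end
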